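import Groth.Agent.KSLib.Basic
import Mathlib.Logic.Equiv.Fin.Basic

/-!
# Cancellation of finite multiplicities
-/

universe u v w

open CategoryTheory CategoryTheory.Limits

namespace Groth.Agent.KSLib

noncomputable section

attribute [local instance] Abelian.hasFiniteBiproducts

variable (k : Type w) [Field k] {C : Type u} [Category.{v} C] [Abelian C] [Linear k C]

omit [Linear k C] in
theorem nonempty_pow_iso {n : ℕ} (F : Fin n → C) (d : ℕ) :
    Nonempty ((⨁ fun _ : Fin d => ⨁ F) ≅ ⨁ fun i : Fin (d * n) => F (finProdFinEquiv.symm i).2) :=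
  ⟨biproductBiproductIso (fun _ : Fin d => Fin n) (fun _ j => F j) ≪≫
    biproduct.whiskerEquiv ((Equiv.sigmaEquivProd (Fin d) (Fin n)).trans finProdFinEquiv) (fun p => eqToIso (by simp))⟩

omit [Linear k C] in
theorem nonempty_append_iso {a b : ℕ} (F : Fin a → C) (G : Fin b → C) :
    Nonempty (((⨁ F) ⊞ ⨁ G) ≅ ⨁ Fin.append F G) :=
  ⟨{ hom := biprod.desc (biproduct.desc fun i => eqToHom (Fin.append_left F G i).symm ≫ biproduct.ι _ (Fin.castAdd b i))
      (biproduct.desc fun i => eqToHom (Fin.append_right F G i).symm ≫ biproduct.ι _ (Fin.natAdd a i))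
     inv := biproduct.desc fun i => Fin.addCases (motive := fun i => Fin.append F G i ⟶ (⨁ F) ⊞ ⨁ G)
      (fun i => eqToHom (Fin.append_left F G i) ≫ biproduct.ι F i ≫ biprod.inl)
      (fun i => eqToHom (Fin.append_right F G i) ≫ biproduct.ι G i ≫ biprod.inr) i
     hom_inv_id := by
      refine biprod.hom_ext' _ _ ?_ ?_ <;> refine biproduct.hom_ext' _ _ fun i => ?_ <;> simp
     inv_hom_id := by
      refine biproduct.hom_ext' _ _ fun i => ?_
      induction i using Fin.addCases with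
      | left i => simp
      | right i => simp }⟩

/-- `A ^ d ≅ B ^ d` with `d ≠ 0` gives `A ≅ B`. -/
theorem nonempty_iso_of_pow (P : C → Prop) (hP : ∀ {A B : C}, P (A ⊞ B) → P A ∧ P B)
    (hPiso : ∀ {A B : C}, (A ≅ B) → P A → P B) (hfin : ∀ A, P A → Module.Finite k (A ⟶ A))
    {A B : C} (hA : P A) (hB : P B) {d : ℕ} (hd : d ≠ 0)
    (φ : (⨁ fun _ : Fin d => A) ≅ ⨁ fun _ : Fin d => B) : Nonempty (A ≅ B) := by
  classical
  obtain ⟨n, F, hF, ⟨α⟩⟩ := exists_decomposition k P hP hPiso hfin _ A hA le_rfl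
  obtain ⟨m, G, hG, ⟨β⟩⟩ := exists_decomposition k P hP hPiso hfin _ B hB le_rfl
  have hPF : ∀ i, P (F i) := fun i => by
    rcases n with _ | n
    · exact i.elim0
    obtain ⟨s, -, -⟩ := exists_splitOff F i
    exact (hP (hPiso (α ≪≫ s) hA)).1
  obtain ⟨a⟩ := nonempty_pow_iso F d
  obtain ⟨b⟩ := nonempty_pow_iso G d
  obtain ⟨e, he⟩ := unique k (d * n) (d * m) _ _ (fun _ => hF _) (fun _ => hG _) (fun _ => hfin _ (hPF _))
    (a.symm ≪≫ biproduct.mapIso (fun _ => α.symm) ≪≫ φ ≪≫ biproduct.mapIso (fun _ => β) ≪≫ b)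
  let cF : Fin n → Quotient (isIsomorphicSetoid C) := fun i => ⟦F i⟧
  let cG : Fin m → Quotient (isIsomorphicSetoid C) := fun i => ⟦G i⟧
  have hcl : ∀ i, cG (finProdFinEquiv.symm (e i)).2 = cF (finProdFinEquiv.symm i).2 := fun i =>
    (Quotient.sound (he i)).symm
  have hcard : ∀ c, Nat.card {i // cF i = c} = Nat.card {j // cG j = c} := fun c => by
    have e1 : {i : Fin (d * n) // cF (finProdFinEquiv.symm i).2 = c} ≃ Fin d × {i // cF i = c} :=
      { toFun := fun i => ((finProdFinEquiv.symm i.1).1, ⟨_, i.2⟩)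
        invFun := fun p => ⟨finProdFinEquiv (p.1, p.2.1), by simpa using p.2.2⟩
        left_inv := fun i => Subtype.ext (finProdFinEquiv.apply_symm_apply i.1)
        right_inv := fun p => by
          refine Prod.ext ?_ (Subtype.ext ?_) <;> simp }
    have e2 : {i : Fin (d * m) // cG (finProdFinEquiv.symm i).2 = c} ≃ Fin d × {i // cG i = c} :=
      { toFun := fun i => ((finProdFinEquiv.symm i.1).1, ⟨_, i.2⟩)
        invFun := fun p => ⟨finProdFinEquiv (p.1, p.2.1), by simpa using p.2.2⟩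
        left_inv := fun i => Subtype.ext (finProdFinEquiv.apply_symm_apply i.1)
        right_inv := fun p => by
          refine Prod.ext ?_ (Subtype.ext ?_) <;> simp }
    have h := Nat.card_congr (e1.symm.trans ((e.subtypeEquiv fun i => by rw [hcl i]).trans e2))
    rw [Nat.card_prod, Nat.card_prod, Nat.card_fin] at h
    exact Nat.eq_of_mul_eq_mul_left (Nat.pos_of_ne_zero hd) h
  let E : Fin n ≃ Fin m := Equiv.ofFiberEquiv fun c => Finite.equivFinOfCardEq (hcard c) |>.trans (Finite.equivFin _).symm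
  have hE : ∀ i, Nonempty (G (E i) ≅ F i) := fun i => Quotient.exact (s := isIsomorphicSetoid C) (Equiv.ofFiberEquiv_map (g := cG) (f := cF) _ i)
  exact ⟨α ≪≫ biproduct.whiskerEquiv E (fun i => Classical.choice (hE i)) ≪≫ β.symm⟩

end

end Groth.Agent.KSLib
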