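import Mathlib.CategoryTheory.Abelian.Basic
import Mathlib.CategoryTheory.Idempotents.Basic
import Mathlib.CategoryTheory.Preadditive.Biproducts
import Mathlib.CategoryTheory.Linear.Basic
import Mathlib.CategoryTheory.Endomorphism
import Mathlib.LinearAlgebra.FiniteDimensional.Basic
import Mathlib.RingTheory.Artinian.Module
import Mathlib.RingTheory.Nilpotent.Basic

/-!
# Krull–Schmidt in Hom-finite abelian categories linear over a field
-/

universe v u w

open CategoryTheory CategoryTheory.Limits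

namespace Groth.Agent.KSLib

noncomputable section

attribute [local instance] Abelian.hasFiniteBiproducts

variable (k : Type w) [Field k] {C : Type u} [Category.{v} C] [Abelian C] [Linear k C]

/-- An indecomposable object. -/
def Indec (A : C) : Prop := ¬ IsZero A ∧ ∀ B₁ B₂ : C, Nonempty (A ≅ B₁ ⊞ B₂) → IsZero B₁ ∨ IsZero B₂

variable {k}

omit [Linear k C] in
/-- An object splits along an idempotent. -/
theorem exists_split {A : C} (e : A ⟶ A) (he : e ≫ e = e) :
    ∃ (Y Y' : C) (φ : A ≅ Y ⊞ Y'), e = φ.hom ≫ biprod.fst ≫ biprod.inl ≫ φ.inv := by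
  obtain ⟨Y, i, p, hip, hpi⟩ := IsIdempotentComplete.idempotents_split A e he
  obtain ⟨Y', i', p', hip', hpi'⟩ := IsIdempotentComplete.idempotents_split A (𝟙 A - e) (by
    simp [he])
  have h₁ : i ≫ p' = 0 := by
    have : i ≫ (p' ≫ i') ≫ p' = 0 := by
      rw [hpi', Preadditive.sub_comp, Preadditive.comp_sub, Category.id_comp, ← hpi]
      simp [reassoc_of% hip]
    simpa [Category.assoc, hip'] using this
  have h₂ : i' ≫ p = 0 := by
    have : i' ≫ (p ≫ i) ≫ p = 0 := by
      have h3 : i' ≫ (𝟙 A - e) = i' := by rw [← hpi', reassoc_of% hip']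
      rw [Preadditive.comp_sub, Category.comp_id, sub_eq_self] at h3
      rw [hpi, ← Category.assoc, h3, zero_comp]
    simpa [Category.assoc, hip] using this
  refine ⟨Y, Y', ⟨biprod.lift p p', biprod.desc i i', ?_, ?_⟩, ?_⟩
  · rw [biprod.lift_desc, hpi, hpi', add_sub_cancel]
  · ext <;> simp [hip, hip', h₁, h₂]
  · simp [hpi]

omit [Linear k C] in
theorem Indec.idem {A : C} (hA : Indec A) (e : A ⟶ A) (he : e ≫ e = e) : e = 0 ∨ e = 𝟙 A := by
  obtain ⟨Y, Y', φ, h⟩ := exists_split e he
  rcases hA.2 Y Y' ⟨φ⟩ with hz | hz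
  · left
    rw [h, hz.eq_of_tgt (biprod.fst : Y ⊞ Y' ⟶ Y) 0]
    simp
  · right
    rw [h]
    have : biprod.fst ≫ biprod.inl = 𝟙 (Y ⊞ Y') := by
      rw [← biprod.total, hz.eq_of_tgt (biprod.snd : Y ⊞ Y' ⟶ Y') 0, zero_comp, add_zero]
    rw [reassoc_of% this, φ.hom_inv_id]

/-- Endomorphisms of an indecomposable object with finite dimensional endomorphisms are invertible or nilpotent. -/
theorem Indec.isUnit_or_isNilpotent {A : C} (hA : Indec A) [Module.Finite k (A ⟶ A)] (f : End A) :
    IsUnit f ∨ IsNilpotent f := by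
  haveI : Module.Finite k (End A) := ‹Module.Finite k (A ⟶ A)›
  let S := Algebra.adjoin k {f}
  haveI : Module.Finite k S := FiniteDimensional.finiteDimensional_submodule (Subalgebra.toSubmodule S)
  haveI : IsArtinianRing S := isArtinian_of_tower k inferInstance
  let x : S := ⟨f, Algebra.subset_adjoin rfl⟩
  letI : CommRing S := { (inferInstance : Ring S) with
    mul_comm := by
      haveI : IsMulCommutative S := Algebra.isMulCommutative_adjoin k (by
        intro a ha b hb; rw [Set.mem_singleton_iff.1 ha, Set.mem_singleton_iff.1 hb])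
      exact mul_comm' }
  obtain ⟨n, y, hy⟩ := IsArtinian.exists_pow_succ_smul_dvd x (1 : S)
  have hy' : (f ^ n.succ * (y : End A) : End A) = f ^ n := by
    have := congrArg (Subtype.val : S → End A) hy
    simpa using this
  have hc : Commute f (y : End A) := congrArg Subtype.val (mul_comm x y)
  have hit : ∀ m, f ^ (n + m) * (y : End A) ^ m = f ^ n := by
    intro m
    induction m with
    | zero => simp
    | succ m ih =>
      calc f ^ (n + (m + 1)) * (y : End A) ^ (m + 1)
          = (f ^ (n + 1) * f ^ m) * ((y : End A) * (y : End A) ^ m) := by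
            rw [pow_succ' (y : End A), ← pow_add, show n + 1 + m = n + (m + 1) by omega]
        _ = (f ^ (n + 1) * (y : End A)) * (f ^ m * (y : End A) ^ m) := by
            simp only [mul_assoc]
            rw [← mul_assoc (f ^ m) (y : End A), (hc.pow_left m).eq, mul_assoc]
        _ = f ^ n * (f ^ m * (y : End A) ^ m) := by rw [hy']
        _ = f ^ n := by rw [← mul_assoc, ← pow_add, ih]
  let e : End A := f ^ n * (y : End A) ^ n
  have hcn : Commute (f ^ n) ((y : End A) ^ n) := hc.pow_pow n n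
  have he : e * e = e := by
    show f ^ n * (y : End A) ^ n * (f ^ n * (y : End A) ^ n) = _
    rw [← mul_assoc, mul_assoc (f ^ n), ← hcn.eq, ← mul_assoc, ← pow_add, mul_assoc, ← pow_add]
    rw [pow_add (M := End A) (y : End A), ← mul_assoc, hit n]
  rcases hA.idem e he with h | h
  · refine Or.inr ⟨n, ?_⟩
    rw [← hit n, pow_add, mul_assoc]
    show f ^ n * e = 0
    rw [show e = (0 : End A) from h, mul_zero]
  · rcases n with _ | n
    · have hy1 : f * (y : End A) = 1 := by simpa using hy'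
      exact Or.inl ⟨⟨f, y, hy1, hc.eq ▸ hy1⟩, rfl⟩
    · left
      have h1 : f * (f ^ n * (y : End A) ^ (n + 1)) = 1 := by
        rw [← mul_assoc, ← pow_succ']
        exact h
      refine ⟨⟨f, _, h1, ?_⟩, rfl⟩
      rw [← ((Commute.refl f).pow_right n |>.mul_right (hc.pow_right (n + 1))).eq]
      exact h1

theorem Indec.isIso_of_sum {A : C} (hA : Indec A) [Module.Finite k (A ⟶ A)] {ι : Type*} (s : Finset ι)
    (g : ι → (A ⟶ A)) (h : IsIso (∑ i ∈ s, g i)) : ∃ i ∈ s, IsIso (g i) := by
  classical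
  induction s using Finset.induction_on with
  | empty =>
    simp only [Finset.sum_empty] at h
    exact absurd ((IsZero.iff_id_eq_zero A).2 (by
      calc 𝟙 A = (0 : A ⟶ A) ≫ inv (0 : A ⟶ A) := (IsIso.hom_inv_id _).symm
        _ = 0 := zero_comp)) hA.1
  | insert a t ha ih =>
    rw [Finset.sum_insert ha] at h
    set q := g a + ∑ i ∈ t, g i
    rcases hA.isUnit_or_isNilpotent (k := k) (g a ≫ inv q : A ⟶ A) with h1 | h1
    · haveI := (isUnit_iff_isIso (g a ≫ inv q)).1 h1
      refine ⟨a, Finset.mem_insert_self a t, ?_⟩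
      have : g a = (g a ≫ inv q) ≫ q := by simp
      rw [this]
      infer_instance
    · have h2 : IsUnit (1 - (show End A from g a ≫ inv q)) := IsNilpotent.isUnit_one_sub h1
      haveI : IsIso (𝟙 A - g a ≫ inv q) := (isUnit_iff_isIso _).1 h2
      have e : ∑ i ∈ t, g i = (𝟙 A - g a ≫ inv q) ≫ q := by
        rw [Preadditive.sub_comp, Category.id_comp, Category.assoc, IsIso.inv_hom_id, Category.comp_id]
        simp only [q, add_sub_cancel_left]
      obtain ⟨i, hi, hi'⟩ := ih (e ▸ inferInstance)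
      exact ⟨i, Finset.mem_insert_of_mem hi, hi'⟩

/-- A retract isomorphism between indecomposables. -/
theorem Indec.isIso_of_isIso_comp {A B : C} (hA : Indec A) (hB : Indec B) (a : A ⟶ B) (b : B ⟶ A)
    [IsIso (a ≫ b)] : IsIso a := by
  let b' := b ≫ inv (a ≫ b)
  have hab : a ≫ b' = 𝟙 A := by simp [b', ← Category.assoc]
  rcases hB.idem (b' ≫ a) (by simp [reassoc_of% hab]) with h | h
  · refine absurd ((IsZero.iff_id_eq_zero A).2 ?_) hA.1
    calc 𝟙 A = (a ≫ b') ≫ (a ≫ b') := by simp [hab]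
      _ = 0 := by simp [reassoc_of% h]
  · exact ⟨b', hab, h⟩

omit [Linear k C] in
/-- Split off one summand. -/
theorem exists_splitOff {n : ℕ} (f : Fin (n + 1) → C) (j : Fin (n + 1)) :
    ∃ φ : (⨁ f) ≅ f j ⊞ ⨁ (fun i => f (j.succAbove i)),
      φ.hom ≫ biprod.fst = biproduct.π f j ∧ biprod.inl ≫ φ.inv = biproduct.ι f j := by
  let hom : (⨁ f) ⟶ f j ⊞ ⨁ (fun i => f (j.succAbove i)) :=
    biprod.lift (biproduct.π f j) (biproduct.lift fun i => biproduct.π f (j.succAbove i))
  let inv : (f j ⊞ ⨁ (fun i => f (j.succAbove i))) ⟶ ⨁ f :=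
    biprod.desc (biproduct.ι f j) (biproduct.desc fun i => biproduct.ι f (j.succAbove i))
  refine ⟨⟨hom, inv, ?_, ?_⟩, biprod.lift_fst _ _, biprod.inl_desc _ _⟩
  · simp only [hom, inv, biprod.lift_desc, biproduct.lift_desc]
    rw [← biproduct.total, Fin.sum_univ_succAbove (fun i => biproduct.π f i ≫ biproduct.ι f i) j]
  · refine biprod.hom_ext' _ _ ?_ (biproduct.hom_ext' _ _ fun i => ?_) <;>
      refine biprod.hom_ext _ _ ?_ (biproduct.hom_ext _ _ fun l => ?_)
    · simp [hom, inv]
    · simp [hom, inv, biproduct.ι_π_ne _ (Fin.succAbove_ne j l).symm]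
    · simp [hom, inv, biproduct.ι_π_ne _ (Fin.succAbove_ne j i)]
    · by_cases h : i = l
      · subst h; simp [hom, inv]
      · simp [hom, inv, biproduct.ι_π_ne _ h, biproduct.ι_π_ne _ (fun e => h (Fin.succAbove_right_injective e))]

variable (k) in
/-- Uniqueness of decompositions into indecomposables. -/
theorem unique : ∀ (n m : ℕ) (F : Fin n → C) (G : Fin m → C), (∀ i, Indec (F i)) → (∀ j, Indec (G j)) →
    (∀ i, Module.Finite k (F i ⟶ F i)) → ((⨁ F) ≅ ⨁ G) → ∃ e : Fin n ≃ Fin m, ∀ i, Nonempty (F i ≅ G (e i))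
  | 0, m, F, G, _, hG, _, φ => by
    rcases m with _ | m
    · exact ⟨Equiv.refl _, fun i => Fin.elim0 i⟩
    · refine absurd ((IsZero.iff_id_eq_zero _).2 ?_) (hG 0).1
      have h : IsZero (⨁ G) := IsZero.of_iso ((IsZero.iff_id_eq_zero _).2 (biproduct.hom_ext _ _ fun i => Fin.elim0 i)) φ.symm
      rw [← biproduct.ι_π_self G 0, h.eq_of_src (biproduct.π G 0) 0, comp_zero]
  | n + 1, m, F, G, hF, hG, hk, φ => by
    haveI := hk 0
    have hsum : ∑ j, (biproduct.ι F 0 ≫ φ.hom ≫ biproduct.π G j) ≫ (biproduct.ι G j ≫ φ.inv ≫ biproduct.π F 0) = 𝟙 _ := by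
      simp only [Category.assoc, ← Preadditive.comp_sum]
      rw [show (∑ j, biproduct.π G j ≫ biproduct.ι G j ≫ φ.inv ≫ biproduct.π F 0) = φ.inv ≫ biproduct.π F 0 by
        simp only [← Category.assoc, ← Preadditive.sum_comp, biproduct.total, Category.id_comp]]
      simp
    obtain ⟨j, -, hj⟩ := (hF 0).isIso_of_sum (k := k) Finset.univ _ (by rw [hsum]; infer_instance)
    haveI : IsIso (biproduct.ι F 0 ≫ φ.hom ≫ biproduct.π G j) := (hF 0).isIso_of_isIso_comp (hG j) _ (biproduct.ι G j ≫ φ.inv ≫ biproduct.π F 0)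
    rcases m with _ | m
    · exact j.elim0
    obtain ⟨α, hα, hα'⟩ := exists_splitOff F 0
    obtain ⟨β, hβ, -⟩ := exists_splitOff G j
    haveI : IsIso (biprod.inl ≫ (α.symm ≪≫ φ ≪≫ β).hom ≫ biprod.fst) := by
      simp only [Iso.trans_hom, Iso.symm_hom, Category.assoc, hβ]
      rw [reassoc_of% hα']
      infer_instance
    obtain ⟨e, he⟩ := unique n m (fun i => F ((0 : Fin (n + 1)).succAbove i)) (fun i => G (j.succAbove i))
      (fun i => hF _) (fun i => hG _) (fun i => hk _) (Biprod.isoElim (α.symm ≪≫ φ ≪≫ β))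
    let E : Fin (n + 1) ≃ Fin (m + 1) := (finSuccEquiv' 0).trans ((Equiv.optionCongr e).trans (finSuccEquiv' j).symm)
    refine ⟨E, fun i => ?_⟩
    rcases Fin.eq_self_or_eq_succAbove 0 i with rfl | ⟨i, rfl⟩
    · have : E 0 = j := by simp [E]
      rw [this]
      exact ⟨asIso (biproduct.ι F 0 ≫ φ.hom ≫ biproduct.π G j)⟩
    · have : E ((0 : Fin (n + 1)).succAbove i) = j.succAbove (e i) := by
        simp only [E, Equiv.trans_apply, finSuccEquiv'_succAbove, Equiv.optionCongr_apply, Option.map_some]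
        rfl
      rw [this]
      exact he i

variable (k) in
/-- Existence of decompositions into indecomposables. -/
theorem exists_decomposition (P : C → Prop) (hP : ∀ {A B : C}, P (A ⊞ B) → P A ∧ P B)
    (hPiso : ∀ {A B : C}, (A ≅ B) → P A → P B) (hfin : ∀ A, P A → Module.Finite k (A ⟶ A)) :
    ∀ (d : ℕ) (A : C), P A → Module.finrank k (A ⟶ A) ≤ d →
      ∃ (n : ℕ) (F : Fin n → C), (∀ i, Indec (F i)) ∧ Nonempty (A ≅ ⨁ F) := by
  intro d
  induction d using Nat.strong_induction_on with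
  | _ d ih =>
    intro A hA hd
    haveI := hfin A hA
    by_cases hz : IsZero A
    · exact ⟨0, fun i => Fin.elim0 i, fun i => Fin.elim0 i,
        ⟨hz.iso ((IsZero.iff_id_eq_zero _).2 (biproduct.hom_ext _ _ fun i => Fin.elim0 i))⟩⟩
    by_cases hi : Indec A
    · exact ⟨1, fun _ => A, fun _ => hi, ⟨(biproductUniqueIso fun _ : Fin 1 => A).symm⟩⟩
    obtain ⟨B₁, B₂, ⟨φ⟩, h₁, h₂⟩ : ∃ B₁ B₂ : C, Nonempty (A ≅ B₁ ⊞ B₂) ∧ ¬ IsZero B₁ ∧ ¬ IsZero B₂ := by
      by_contra h
      refine hi ⟨hz, fun B₁ B₂ hφ => ?_⟩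
      by_contra h'
      rw [not_or] at h'
      exact h ⟨B₁, B₂, hφ, h'⟩
    obtain ⟨hB₁, hB₂⟩ := hP (hPiso φ hA)
    haveI := hfin _ hB₁
    haveI := hfin _ hB₂
    let L : ((B₁ ⟶ B₁) × (B₂ ⟶ B₂)) →ₗ[k] (A ⟶ A) :=
      { toFun := fun x => φ.hom ≫ biprod.map x.1 x.2 ≫ φ.inv
        map_add' := fun x y => by
          rw [← Preadditive.comp_add, ← Preadditive.add_comp]
          congr 2
          ext <;> simp
        map_smul' := fun r x => by
          show φ.hom ≫ biprod.map (r • x.1) (r • x.2) ≫ φ.inv = r • _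
          rw [← Linear.comp_smul, ← Linear.smul_comp]
          congr 2
          ext <;> simp }
    have hL : Function.Injective L := fun x y h => by
      have h' : biprod.map x.1 x.2 = biprod.map y.1 y.2 := (cancel_mono φ.inv).1 ((cancel_epi φ.hom).1 h)
      refine Prod.ext ?_ ?_
      · simpa using congrArg (fun t => biprod.inl ≫ t ≫ biprod.fst) h'
      · simpa using congrArg (fun t => biprod.inr ≫ t ≫ biprod.snd) h'
    have hle := LinearMap.finrank_le_finrank_of_injective hL
    rw [Module.finrank_prod] at hle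
    have hpos : ∀ (B : C), ¬ IsZero B → Module.Finite k (B ⟶ B) → 0 < Module.finrank k (B ⟶ B) := fun B hB _ =>
      Module.finrank_pos_iff.2 ⟨⟨𝟙 B, 0, fun h => hB ((IsZero.iff_id_eq_zero B).2 h)⟩⟩
    have p₁ := hpos B₁ h₁ inferInstance
    have p₂ := hpos B₂ h₂ inferInstance
    obtain ⟨n₁, F₁, hF₁, ⟨e₁⟩⟩ := ih _ (show d - 1 < d by omega) B₁ hB₁ (by omega)
    obtain ⟨n₂, F₂, hF₂, ⟨e₂⟩⟩ := ih _ (show d - 1 < d by omega) B₂ hB₂ (by omega)
    refine ⟨n₁ + n₂, Fin.append F₁ F₂, fun i => ?_, ⟨φ ≪≫ biprod.mapIso e₁ e₂ ≪≫ ?_⟩⟩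
    · induction i using Fin.addCases with
      | left i => simpa using hF₁ i
      | right i => simpa using hF₂ i
    · exact
        { hom := biprod.desc (biproduct.desc fun i => eqToHom (Fin.append_left F₁ F₂ i).symm ≫ biproduct.ι _ (Fin.castAdd n₂ i))
            (biproduct.desc fun i => eqToHom (Fin.append_right F₁ F₂ i).symm ≫ biproduct.ι _ (Fin.natAdd n₁ i))
          inv := biproduct.desc fun i => Fin.addCases (motive := fun i => Fin.append F₁ F₂ i ⟶ (⨁ F₁) ⊞ ⨁ F₂)
            (fun i => eqToHom (Fin.append_left F₁ F₂ i) ≫ biproduct.ι F₁ i ≫ biprod.inl)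
            (fun i => eqToHom (Fin.append_right F₁ F₂ i) ≫ biproduct.ι F₂ i ≫ biprod.inr) i
          hom_inv_id := by
            refine biprod.hom_ext' _ _ ?_ ?_ <;> refine biproduct.hom_ext' _ _ fun i => ?_ <;> simp
          inv_hom_id := by
            refine biproduct.hom_ext' _ _ fun i => ?_
            induction i using Fin.addCases with
            | left i => simp
            | right i => simp }

end

end Groth.Agent.KSLib
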